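import Mathlib

/-!
# Finite normal sets of torsion elements

Dietzmann's Lemma with an explicit bound: a conjugation invariant set of `w` elements, each of
order at most `m`, generates a group of order at most `(w + 1) ^ (w * m)`.
-/

set_option autoImplicit false

namespace Cfsg.Agent.Lib.BoundedDerived

open Subgroup
open scoped commutatorElement

variable {G : Type*} [Group G]

theorem exists_pull [DecidableEq G] {W : Set G} (hW : ∀ g : G, ∀ u ∈ W, g * u * g⁻¹ ∈ W) (u : G) :
    ∀ (k : ℕ) (l : List G), (∀ x ∈ l, x ∈ W) → k ≤ l.count u →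
      ∃ l' : List G, (∀ x ∈ l', x ∈ W) ∧ l'.length + k = l.length ∧ l.prod = u ^ k * l'.prod := by
  intro k l
  induction l generalizing k with
  | nil =>
    intro _ hk
    simp only [List.count_nil, Nat.le_zero] at hk
    exact ⟨[], by simp, by simp [hk], by simp [hk]⟩
  | cons v t ih =>
    intro hl hk
    have hv := hl v (List.mem_cons_self ..)
    have ht : ∀ x ∈ t, x ∈ W := fun x hx => hl x (List.mem_cons_of_mem _ hx)
    cases k with
    | zero => exact ⟨v :: t, hl, by simp, by simp⟩
    | succ k =>
      by_cases hvu : v = u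
      · subst hvu
        rw [List.count_cons_self] at hk
        obtain ⟨t', ht', hlen, hprod⟩ := ih k ht (by omega)
        refine ⟨t', ht', by simp; omega, ?_⟩
        rw [List.prod_cons, hprod, pow_succ', mul_assoc]
      · rw [List.count_cons_of_ne hvu] at hk
        obtain ⟨t', ht', hlen, hprod⟩ := ih (k + 1) ht hk
        refine ⟨((u ^ (k + 1))⁻¹ * v * u ^ (k + 1)) :: t', ?_, by simp; omega, ?_⟩
        · intro x hx
          rcases List.mem_cons.mp hx with rfl | hx
          · simpa using hW (u ^ (k + 1))⁻¹ v hv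
          · exact ht' x hx
        · rw [List.prod_cons, List.prod_cons, hprod]
          group

theorem exists_short [Finite G] {W : Set G} (hW : ∀ g : G, ∀ u ∈ W, g * u * g⁻¹ ∈ W) {m : ℕ}
    (hm : ∀ u ∈ W, orderOf u ≤ m) (l : List G) (hl : ∀ x ∈ l, x ∈ W) :
    ∃ l' : List G, (∀ x ∈ l', x ∈ W) ∧ l'.length ≤ W.ncard * m ∧ l.prod = l'.prod := by
  classical
  induction hn : l.length using Nat.strong_induction_on generalizing l with
  | _ n ih =>
    by_cases hle : l.length ≤ W.ncard * m
    · exact ⟨l, hl, hle, rfl⟩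
    · obtain ⟨u, hu, hcount⟩ : ∃ u ∈ W, orderOf u ≤ l.count u := by
        by_contra h
        push Not at h
        apply hle
        have h1 : l.length = ∑ u ∈ l.toFinset, l.count u := (List.sum_toFinset_count_eq_length l).symm
        rw [h1]
        calc ∑ u ∈ l.toFinset, l.count u ≤ ∑ _u ∈ l.toFinset, m :=
              Finset.sum_le_sum fun u hu =>
                ((h u (hl u (List.mem_toFinset.mp hu))).le).trans (hm u (hl u (List.mem_toFinset.mp hu)))
          _ = l.toFinset.card * m := by rw [Finset.sum_const, smul_eq_mul]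
          _ ≤ W.ncard * m := by
              refine Nat.mul_le_mul_right m ?_
              rw [← Set.ncard_coe_finset]
              exact Set.ncard_le_ncard (fun x hx => hl x (List.mem_toFinset.mp hx)) (Set.toFinite _)
      obtain ⟨l', hl', hlen, hprod⟩ := exists_pull hW u (orderOf u) l hl hcount
      have hpos : 0 < orderOf u := orderOf_pos u
      obtain ⟨l'', h1, h2, h3⟩ := ih l'.length (by omega) l' hl' rfl
      exact ⟨l'', h1, h2, by rw [hprod, pow_orderOf_eq_one, one_mul, h3]⟩

/-- Dietzmann's Lemma. -/
theorem card_closure_le [Finite G] {W : Set G} (hW : ∀ g : G, ∀ u ∈ W, g * u * g⁻¹ ∈ W) {m : ℕ}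
    (hm : ∀ u ∈ W, orderOf u ≤ m) :
    Nat.card (closure W) ≤ (W.ncard + 1) ^ (W.ncard * m) := by
  classical
  set L := W.ncard * m with hL
  have hsurj : ∀ x ∈ closure W, ∃ f : Fin L → Option W,
      ((List.ofFn f).filterMap (fun o => o.map Subtype.val)).prod = x := by
    intro x hx
    obtain ⟨l, hl, rfl⟩ : ∃ l : List G, (∀ y ∈ l, y ∈ W) ∧ l.prod = x := by
      have : x ∈ Submonoid.closure W := by
        rw [← Subgroup.closure_toSubmonoid_of_finite]
        exact hx
      exact Submonoid.exists_list_of_mem_closure this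
    obtain ⟨l', hl', hlen, hprod⟩ := exists_short hW hm l hl
    rw [hprod]
    set l₁ : List (Option W) := (l'.attach.map fun y => some ⟨y.1, hl' y.1 y.2⟩) ++
      List.replicate (L - l'.length) none with hl₁
    have hlen₁ : l₁.length = L := by simp [hl₁]; omega
    refine ⟨fun i => l₁[i.1]'(by omega), ?_⟩
    have : List.ofFn (fun i : Fin L => l₁[i.1]'(by omega)) = l₁ :=
      List.ext_getElem (by simp [hlen₁]) fun i h1 h2 => by simp
    rw [this, hl₁, List.filterMap_append]
    simp [List.filterMap_map, List.filterMap_replicate]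
  choose f hf using hsurj
  have hinj : Function.Injective (fun x : closure W => f x.1 x.2) := fun a b h =>
    Subtype.ext ((hf a.1 a.2).symm.trans ((congrArg
      (fun g => ((List.ofFn g).filterMap (fun o => o.map Subtype.val)).prod) h).trans (hf b.1 b.2)))
  refine (Nat.card_le_card_of_injective _ hinj).trans (le_of_eq ?_)
  rw [Nat.card_fun, Nat.card_eq_fintype_card (α := Fin L), Fintype.card_fin, Finite.card_option,
    Nat.card_coe_set_eq]

/-- A normal closure of finitely many torsion elements with few conjugates is small. -/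
theorem card_normalClosure_le [Finite G] (R : Set G) {m c N : ℕ} (hN : R.ncard ≤ N)
    (hc : ∀ r ∈ R, (centralizer ({r} : Set G)).index ≤ c) (hm : ∀ r ∈ R, orderOf r ≤ m) :
    Nat.card (normalClosure R) ≤ (N * c + 1) ^ (N * c * m) := by
  classical
  haveI := Fintype.ofFinite G
  have hcount : (Group.conjugatesOfSet R).ncard ≤ N * c := by
    have hsub : Group.conjugatesOfSet R ⊆ ⋃ r ∈ R.toFinset, conjugatesOf r := by
      intro x hx
      obtain ⟨r, hr, hrx⟩ := Group.mem_conjugatesOfSet_iff.mp hx
      exact Set.mem_iUnion₂.mpr ⟨r, Set.mem_toFinset.mpr hr, hrx⟩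
    refine (Set.ncard_le_ncard hsub (Set.toFinite _)).trans ?_
    refine (Finset.set_ncard_biUnion_le _ _).trans ?_
    calc ∑ r ∈ R.toFinset, (conjugatesOf r).ncard ≤ ∑ _r ∈ R.toFinset, c := by
          refine Finset.sum_le_sum fun r hr => ?_
          refine le_trans (le_of_eq ?_) (hc r (Set.mem_toFinset.mp hr))
          have h1 := MulAction.index_stabilizer (ConjAct G) r
          rw [← Nat.card_coe_set_eq]
          have h2 : MulAction.orbit (ConjAct G) r = conjugatesOf r := by
            ext y
            rw [ConjAct.mem_orbit_conjAct, isConj_comm]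
            exact Iff.rfl
          rw [← h2, Nat.card_coe_set_eq, ← h1, ConjAct.stabilizer_eq_centralizer]
          rfl
      _ = R.ncard * c := by rw [Finset.sum_const, smul_eq_mul, Set.ncard_eq_toFinset_card']
      _ ≤ N * c := Nat.mul_le_mul_right c hN
  have hinv : ∀ g : G, ∀ u ∈ Group.conjugatesOfSet R, g * u * g⁻¹ ∈ Group.conjugatesOfSet R :=
    fun g u hu => Group.conj_mem_conjugatesOfSet hu
  have hord : ∀ u ∈ Group.conjugatesOfSet R, orderOf u ≤ m := by
    intro u hu
    obtain ⟨r, hr, hru⟩ := Group.mem_conjugatesOfSet_iff.mp hu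
    obtain ⟨g, hg⟩ := isConj_iff.mp hru
    rw [← hg, ← MulAut.conj_apply, MulEquiv.orderOf_eq]
    exact hm r hr
  refine (card_closure_le hinv hord).trans ?_
  refine (Nat.pow_le_pow_left (Nat.add_le_add_right hcount 1) _).trans ?_
  exact Nat.pow_le_pow_right (by omega) (Nat.mul_le_mul_right m hcount)

/-- A group generated by `T` has derived subgroup the normal closure of the `⁅x, y⁆`, `x, y ∈ T`. -/
theorem commutator_le_normalClosure {T : Set G} (hT : closure T = ⊤) :
    commutator G ≤ normalClosure {z | ∃ x ∈ T, ∃ y ∈ T, ⁅x, y⁆ = z} := by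
  set N := normalClosure {z | ∃ x ∈ T, ∃ y ∈ T, ⁅x, y⁆ = z} with hN
  let π := QuotientGroup.mk' N
  have hgen : closure (π '' T) = ⊤ := by
    rw [← MonoidHom.map_closure, hT, map_top_of_surjective π (QuotientGroup.mk'_surjective N)]
  have hcomm : IsMulCommutative (closure (π '' T)) := by
    refine isMulCommutative_closure ?_
    rintro _ ⟨x, hx, rfl⟩ _ ⟨y, hy, rfl⟩
    have h : ⁅π x, π y⁆ = 1 := by
      rw [← map_commutatorElement]
      exact (QuotientGroup.eq_one_iff _).mpr (subset_normalClosure ⟨x, hx, y, hy, rfl⟩)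
    exact commutatorElement_eq_one_iff_mul_comm.mp h
  rw [_root_.commutator_def, commutator_le]
  intro g _ h _
  have hg : π g ∈ closure (π '' T) := hgen ▸ mem_top _
  have hh : π h ∈ closure (π '' T) := hgen ▸ mem_top _
  have := congrArg Subtype.val (hcomm.is_comm.comm ⟨_, hg⟩ ⟨_, hh⟩)
  rw [← QuotientGroup.eq_one_iff]
  show π ⁅g, h⁆ = 1
  rw [map_commutatorElement, commutatorElement_eq_one_iff_mul_comm]
  exact this

end Cfsg.Agent.Lib.BoundedDerived
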