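import Cfsg.Agent.Lib.BoundedDerived.Dietzmann
import Cfsg.Agent.Lib.CoprimeOrder.Formula
import Cfsg.Agent.Lib.Coprime.Cocyclic
import Cfsg.Agent.Lib.Coprime.Semidirect

/-!
# Coprime action of an elementary abelian group of order `q³` and derived subgroups

If the derived subgroups of the centralisers `C_G(a)`, `a ≠ 1`, have order at most `m`, then
`G` has derived subgroup of `(q, m)`-bounded order: `G` is generated by the fixed points `T` of
subgroups of order `≥ q²`, the order formula bounds the classes of the elements of `T`, and the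
commutators of pairs of elements of `T` lie in the small derived subgroups.
-/

set_option autoImplicit false

namespace Cfsg.Agent.Lib.BoundedDerived

open Subgroup
open scoped commutatorElement Pointwise

variable {X : Type*} [Group X] [Finite X] {q m : ℕ}

theorem two_le_card_line [hq : Fact q.Prime] {B : Subgroup X}
    (hB : Cfsg.IsElementaryAbelian q B) (hB2 : q ^ 2 ≤ Nat.card B) :
    2 ≤ Nat.card (CoprimeOrder.Line q B) := by
  haveI : Fintype (CoprimeOrder.Line q B) := Fintype.ofFinite _
  have hp1 := hq.out.one_lt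
  have hne : B ≠ ⊥ := by
    rintro rfl
    rw [Subgroup.card_bot] at hB2
    nlinarith
  obtain ⟨a, ha, ha1⟩ := (Subgroup.bot_or_exists_ne_one B).resolve_left hne
  obtain ⟨b, hb, hb1⟩ : ∃ b ∈ B, b ∉ zpowers a := by
    by_contra h
    push Not at h
    have := Nat.le_of_dvd Nat.card_pos (card_dvd_of_le (h : B ≤ zpowers a))
    rw [(CoprimeOrder.zpowers_line hB ha ha1).2] at this
    nlinarith
  have hbne : b ≠ 1 := fun h => hb1 (h ▸ one_mem _)
  rw [Nat.card_eq_fintype_card]
  refine Fintype.one_lt_card_iff.mpr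
    ⟨⟨zpowers a, CoprimeOrder.zpowers_line hB ha ha1⟩,
      ⟨zpowers b, CoprimeOrder.zpowers_line hB hb hbne⟩, fun h => hb1 ?_⟩
  have h' : zpowers a = zpowers b := congrArg Subtype.val h
  rw [h']
  exact mem_zpowers b

theorem card_line_le [hq : Fact q.Prime] (B : Subgroup X) :
    Nat.card (CoprimeOrder.Line q B) ≤ Nat.card B := by
  classical
  have hex : ∀ L : CoprimeOrder.Line q B, ∃ g : B, L.1 = zpowers (g : X) := by
    intro L
    have hne : L.1 ≠ ⊥ := fun h => by
      have := L.2.2
      rw [h, Subgroup.card_bot] at this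
      exact hq.out.ne_one this.symm
    obtain ⟨g, hg, hg1⟩ := (Subgroup.bot_or_exists_ne_one L.1).resolve_left hne
    exact ⟨⟨g, L.2.1 hg⟩, CoprimeOrder.line_eq_zpowers L.2.2 hg hg1⟩
  choose g hg using hex
  refine Nat.card_le_card_of_injective g fun L L' h => Subtype.ext ?_
  rw [hg L, hg L', h]

/-- An element fixed by a subgroup of order at least `q²` has few conjugates in `K`. -/
theorem card_le_mul_centralizer [hq : Fact q.Prime] {B K : Subgroup X}
    (hB : Cfsg.IsElementaryAbelian q B) (hB2 : q ^ 2 ≤ Nat.card B)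
    (hBK : B ≤ normalizer (K : Set X)) (hK : ¬ q ∣ Nat.card K)
    (hm : ∀ a ∈ B, a ≠ 1 →
      Nat.card ↥(⁅K ⊓ centralizer {a}, K ⊓ centralizer {a}⁆ : Subgroup X) ≤ m)
    {x : X} (hxK : x ∈ K) (hxB : x ∈ centralizer (B : Set X)) :
    Nat.card K ≤ (m + 1) ^ (q * Nat.card B) * Nat.card ↥(K ⊓ centralizer {x}) := by
  classical
  haveI : Fintype (CoprimeOrder.Line q B) := Fintype.ofFinite _
  set H := K ⊓ centralizer {x} with hH
  set n := Nat.card (CoprimeOrder.Line q B) with hn
  have hn2 : 2 ≤ n := two_le_card_line hB hB2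
  have hBH : B ≤ normalizer (H : Set X) := by
    have h1 : ∀ b ∈ B, b * x * b⁻¹ = x := fun b hb => by
      rw [mem_centralizer_iff.mp hxB b hb, mul_inv_cancel_right]
    intro b hb
    rw [mem_normalizer_iff]
    intro y
    simp only [hH, mem_inf, mem_centralizer_singleton_iff]
    rw [← (mem_normalizer_iff.mp (hBK hb) y)]
    refine and_congr_right fun _ => ?_
    conv_rhs => rw [← h1 b hb]
    constructor
    · intro h
      calc b * y * b⁻¹ * (b * x * b⁻¹) = b * (y * x) * b⁻¹ := by group
        _ = b * (x * y) * b⁻¹ := by rw [h]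
        _ = b * x * b⁻¹ * (b * y * b⁻¹) := by group
    · intro h
      have h' : b * (y * x) * b⁻¹ = b * (x * y) * b⁻¹ := by
        calc b * (y * x) * b⁻¹ = b * y * b⁻¹ * (b * x * b⁻¹) := by group
          _ = b * x * b⁻¹ * (b * y * b⁻¹) := h
          _ = b * (x * y) * b⁻¹ := by group
      exact mul_left_cancel (mul_right_cancel h')
  have hHK : H ≤ K := inf_le_left
  have fK := CoprimeOrder.prod_card hB (by omega) hBK hK
  have fH := CoprimeOrder.prod_card hB (by omega) hBH
    (fun h => hK (h.trans (card_dvd_of_le hHK)))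
  -- each line
  have hline : ∀ L : CoprimeOrder.Line q B,
      Nat.card ↥(K ⊓ centralizer (L.1 : Set X)) ≤
        (m + 1) * Nat.card ↥(H ⊓ centralizer (L.1 : Set X)) := by
    intro L
    have hne : L.1 ≠ ⊥ := fun h => by
      have := L.2.2
      rw [h, Subgroup.card_bot] at this
      exact hq.out.ne_one this.symm
    obtain ⟨a, ha, ha1⟩ := (Subgroup.bot_or_exists_ne_one L.1).resolve_left hne
    rw [CoprimeOrder.line_eq_zpowers L.2.2 ha ha1, zpowers_eq_closure, centralizer_closure]
    set C := K ⊓ centralizer {a} with hC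
    set D : Subgroup X := ⁅C, C⁆
    have hxC : x ∈ C := by
      refine ⟨hxK, ?_⟩
      exact mem_centralizer_singleton_iff.mpr (mem_centralizer_iff.mp hxB a (L.2.1 ha)).symm
    let f : C → D := fun c => ⟨⁅(c : X), x⁆, commutator_mem_commutator c.2 hxC⟩
    have hH' : H ⊓ centralizer {a} ≤ C := inf_le_inf_right _ hHK
    let g : C ⧸ (H ⊓ centralizer {a}).subgroupOf C → D :=
      Quotient.lift f fun c d hcd => by
        have hcd' : (c : X)⁻¹ * d ∈ centralizer {x} := by
          have := QuotientGroup.leftRel_apply.mp hcd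
          rw [mem_subgroupOf] at this
          exact this.1.2
        rw [mem_centralizer_singleton_iff] at hcd'
        refine Subtype.ext ?_
        show ⁅(c : X), x⁆ = ⁅(d : X), x⁆
        have hd : (d : X) = c * ((c : X)⁻¹ * d) := by group
        rw [commutatorElement_def, commutatorElement_def]
        conv_rhs => rw [hd]
        generalize (c : X)⁻¹ * d = z at hcd' ⊢
        calc (c : X) * x * (c : X)⁻¹ * x⁻¹ = c * (x * z) * z⁻¹ * (c : X)⁻¹ * x⁻¹ := by group
          _ = c * (z * x) * z⁻¹ * (c : X)⁻¹ * x⁻¹ := by rw [hcd']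
          _ = c * z * x * (c * z)⁻¹ * x⁻¹ := by group
    have hg : Function.Injective g := by
      intro u v
      induction u using QuotientGroup.induction_on with
      | _ c =>
        induction v using QuotientGroup.induction_on with
        | _ d =>
          intro h
          have h' : ⁅(c : X), x⁆ = ⁅(d : X), x⁆ := congrArg Subtype.val h
          rw [commutatorElement_def, commutatorElement_def] at h'
          have h'' : (c : X) * x * (c : X)⁻¹ = d * x * (d : X)⁻¹ := mul_right_cancel h'
          have hcd : (c : X)⁻¹ * d * x = x * ((c : X)⁻¹ * d) := by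
            calc (c : X)⁻¹ * d * x = (c : X)⁻¹ * (d * x * (d : X)⁻¹) * d := by group
              _ = (c : X)⁻¹ * (c * x * (c : X)⁻¹) * d := by rw [h'']
              _ = x * ((c : X)⁻¹ * d) := by group
          refine QuotientGroup.eq.mpr ?_
          rw [mem_subgroupOf]
          have hcdC : (c : X)⁻¹ * d ∈ C := C.mul_mem (C.inv_mem c.2) d.2
          exact ⟨⟨hcdC.1, mem_centralizer_singleton_iff.mpr hcd⟩, hcdC.2⟩
    have hidx : ((H ⊓ centralizer {a}).subgroupOf C).index ≤ m + 1 :=
      (Nat.card_le_card_of_injective g hg).trans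
        (le_trans (hm a (L.2.1 ha) ha1) (Nat.le_succ m))
    rw [← ((H ⊓ centralizer {a}).subgroupOf C).card_mul_index,
      Nat.card_congr (subgroupOfEquivOfLe hH').toEquiv, mul_comm]
    exact Nat.mul_le_mul_right _ hidx
  have hprod : ∏ L : CoprimeOrder.Line q B, Nat.card ↥(K ⊓ centralizer (L.1 : Set X)) ^ q ≤
      ((m + 1) ^ q) ^ n *
        ∏ L : CoprimeOrder.Line q B, Nat.card ↥(H ⊓ centralizer (L.1 : Set X)) ^ q := by
    refine (Finset.prod_le_prod' fun L _ => Nat.pow_le_pow_left (hline L) q).trans (le_of_eq ?_)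
    simp only [mul_pow]
    rw [Finset.prod_mul_distrib, Finset.prod_const, Finset.card_univ, ← Nat.card_eq_fintype_card]
  rw [fK, fH] at hprod
  have hA : Nat.card ↥(H ⊓ centralizer (B : Set X)) ≤ Nat.card ↥(K ⊓ centralizer (B : Set X)) :=
    card_le_of_le (inf_le_inf_right _ hHK)
  have h1 : Nat.card ↥(K ⊓ centralizer (B : Set X)) ^ Nat.card B * Nat.card K ^ (n - 1) ≤
      Nat.card ↥(K ⊓ centralizer (B : Set X)) ^ Nat.card B *
        (((m + 1) ^ q) ^ n * Nat.card H ^ (n - 1)) := by
    refine hprod.trans ?_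
    rw [mul_left_comm]
    exact Nat.mul_le_mul_right _ (Nat.pow_le_pow_left hA _) |>.trans le_rfl
  have h2 := Nat.le_of_mul_le_mul_left h1 (pow_pos Nat.card_pos _)
  have h3 : Nat.card K ^ (n - 1) ≤ (((m + 1) ^ q) ^ n * Nat.card H) ^ (n - 1) := by
    refine h2.trans ?_
    rw [mul_pow]
    exact Nat.mul_le_mul_right _ (Nat.le_self_pow (by omega) _)
  refine ((Nat.pow_le_pow_iff_left (by omega)).mp h3).trans (Nat.mul_le_mul_right _ ?_)
  rw [← pow_mul]
  exact Nat.pow_le_pow_right (by omega) (Nat.mul_le_mul_left q (card_line_le B))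

/-- The bound. -/
def bound (q m : ℕ) : ℕ :=
  (q ^ 3 * m * ((m + 1) ^ (q * q ^ 3) * (m + 1) ^ (q * q ^ 3)) + 1) ^
    (q ^ 3 * m * ((m + 1) ^ (q * q ^ 3) * (m + 1) ^ (q * q ^ 3)) * m)

theorem card_commutator_le {A G : Type*} [CommGroup A] [Finite A] [Group G] [Finite G]
    (φ : A →* MulAut G) (hq : q.Prime) (hA : Nat.card A = q ^ 3) (hexp : ∀ a : A, a ^ q = 1)
    (hG : ¬ q ∣ Nat.card G)
    (hm : ∀ a : A, a ≠ 1 →
      Nat.card (commutator ↥(Coprime.fixedBy (φ a))) ≤ m) :
    Nat.card (commutator G) ≤ bound q m := by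
  classical
  haveI := Fact.mk hq
  haveI : Fintype A := Fintype.ofFinite A
  have hcop : (Nat.card A).Coprime (Nat.card G) :=
    hA ▸ Nat.Coprime.pow_left 3 (hq.coprime_iff_not_dvd.mpr hG)
  set T : Set G := {x | ∃ B : Subgroup A, q ^ 2 ≤ Nat.card B ∧ ∀ b ∈ B, φ b x = x} with hT
  have hTtop : closure T = ⊤ := by
    refine Coprime.eq_top_of_cocyclic φ hcop _ fun B g hBg x hx => subset_closure ⟨B, ?_, hx⟩
    have h1 : Nat.card A ≤ Nat.card B * q := by
      have h2 : ((B : Set A) * (zpowers g : Set A)) = Set.univ := by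
        rw [← Subgroup.coe_top, ← hBg, Subgroup.mul_normal]
      have h3 := Set.natCard_mul_le (s := (B : Set A)) (t := (zpowers g : Set A))
      rw [h2, Nat.card_congr (Equiv.Set.univ A), SetLike.coe_sort_coe, SetLike.coe_sort_coe,
        Nat.card_zpowers] at h3
      exact h3.trans (Nat.mul_le_mul_left _ (orderOf_le_of_pow_eq_one hq.pos (hexp g)))
    rw [hA, pow_succ] at h1
    exact Nat.le_of_mul_le_mul_right h1 hq.pos
  -- two large subgroups meet
  have hmeet : ∀ B B' : Subgroup A, q ^ 2 ≤ Nat.card B → q ^ 2 ≤ Nat.card B' →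
      ∃ a ∈ B, a ∈ B' ∧ a ≠ 1 := by
    intro B B' hB hB'
    by_contra hcon
    push Not at hcon
    have hinj : Function.Injective fun p : B × B' => (p.1 : A) * p.2 := by
      refine fun u v h => ?_
      simp only at h
      have e : (v.1 : A)⁻¹ * u.1 = v.2 * (u.2 : A)⁻¹ := by
        rw [inv_mul_eq_iff_eq_mul, ← mul_assoc, eq_mul_inv_iff_mul_eq, h]
      have h1 := hcon ((v.1 : A)⁻¹ * u.1) (B.mul_mem (B.inv_mem v.1.2) u.1.2)
        (e ▸ B'.mul_mem v.2.2 (B'.inv_mem u.2.2))
      have h2 : (u.1 : A) = v.1 := (inv_mul_eq_one.mp h1).symm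
      rw [h2] at h
      exact Prod.ext (Subtype.ext h2) (Subtype.ext (mul_left_cancel h))
    have := Nat.card_le_card_of_injective _ hinj
    rw [Nat.card_prod, hA] at this
    have h4 := (Nat.mul_le_mul hB hB').trans this
    rw [← pow_add] at h4
    exact absurd ((Nat.pow_le_pow_iff_right hq.one_lt).mp h4) (by omega)
  set R : Set G := {z | ∃ x ∈ T, ∃ y ∈ T, ⁅x, y⁆ = z} with hR
  have hRsub : R ⊆ ⋃ a ∈ (Finset.univ.filter fun a : A => a ≠ 1),
      (((commutator ↥(Coprime.fixedBy (φ a))).map (Coprime.fixedBy (φ a)).subtype : Subgroup G) :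
        Set G) := by
    rintro _ ⟨x, ⟨B, hB, hxB⟩, y, ⟨B', hB', hyB'⟩, rfl⟩
    obtain ⟨a, haB, haB', ha1⟩ := hmeet B B' hB hB'
    refine Set.mem_iUnion₂.mpr ⟨a, by simp [ha1], ?_⟩
    exact ⟨⁅(⟨x, hxB a haB⟩ : Coprime.fixedBy (φ a)), ⟨y, hyB' a haB'⟩⁆,
      commutator_mem_commutator (mem_top _) (mem_top _), by simp [commutatorElement_def]⟩
  have hRcard : R.ncard ≤ q ^ 3 * m := by
    refine (Set.ncard_le_ncard hRsub (Set.toFinite _)).trans ?_
    refine (Finset.set_ncard_biUnion_le _ _).trans ?_
    refine (Finset.sum_le_card_nsmul _ _ m fun a ha => ?_).trans ?_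
    · rw [← Nat.card_coe_set_eq, SetLike.coe_sort_coe, card_map_of_injective (subtype_injective _)]
      exact hm a (Finset.mem_filter.mp ha).2
    · rw [smul_eq_mul]
      refine Nat.mul_le_mul_right m ?_
      rw [← hA, Nat.card_eq_fintype_card]
      exact Finset.card_filter_le _ _
  have hRord : ∀ r ∈ R, orderOf r ≤ m := by
    intro r hr
    obtain ⟨a, ha, hra⟩ := Set.mem_iUnion₂.mp (hRsub hr)
    have hra' : r ∈ (commutator ↥(Coprime.fixedBy (φ a))).map (Coprime.fixedBy (φ a)).subtype := hra
    refine (Nat.le_of_dvd Nat.card_pos (orderOf_dvd_natCard _ hra')).trans ?_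
    rw [card_map_of_injective (subtype_injective _)]
    exact hm a (Finset.mem_filter.mp ha).2
  -- classes
  have hindex : ∀ x ∈ T, (centralizer ({x} : Set G)).index ≤ (m + 1) ^ (q * q ^ 3) := by
    rintro x ⟨B, hB, hxB⟩
    haveI := Coprime.finite_semidirect φ
    set ι : G →* G ⋊[φ] A := SemidirectProduct.inl
    set ρ : A →* G ⋊[φ] A := SemidirectProduct.inr
    have hι : Function.Injective ι := SemidirectProduct.inl_injective
    have hρ : Function.Injective ρ := SemidirectProduct.inr_injective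
    have hconj : ∀ (b : A) (y : G), ρ b * ι y * (ρ b)⁻¹ = ι (φ b y) := fun b y => by
      rw [SemidirectProduct.inl_aut, map_inv]
    have hB' : Cfsg.IsElementaryAbelian q (B.map ρ) := by
      refine ⟨⟨⟨fun u v => Subtype.ext ?_⟩⟩, ?_⟩
      · obtain ⟨u, b, -, rfl⟩ := u
        obtain ⟨v, c, -, rfl⟩ := v
        show ρ b * ρ c = ρ c * ρ b
        rw [← map_mul, mul_comm, map_mul]
      · rintro _ ⟨b, -, rfl⟩
        rw [← map_pow, hexp, map_one]
    have hcardB : Nat.card (B.map ρ) = Nat.card B := card_map_of_injective hρ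
    have hKcard : Nat.card ι.range = Nat.card G :=
      (Nat.card_congr (MonoidHom.ofInjective hι).toEquiv).symm
    have hBK : B.map ρ ≤ normalizer (ι.range : Set (G ⋊[φ] A)) :=
      (map_le_range _ _).trans (Coprime.inr_range_le_normalizer φ)
    have key := card_le_mul_centralizer (m := m) hB' (hcardB ▸ hB) hBK (hKcard ▸ hG) ?_
      (x := ι x) ⟨x, rfl⟩ ?_
    · have hcen : ι.range ⊓ centralizer {ι x} = (centralizer {x}).map ι := by
        ext z
        rw [mem_inf, mem_centralizer_singleton_iff]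
        constructor
        · rintro ⟨⟨y, rfl⟩, hy⟩
          exact ⟨y, mem_centralizer_singleton_iff.mpr (hι (by rwa [map_mul, map_mul])), rfl⟩
        · rintro ⟨y, hy, rfl⟩
          exact ⟨⟨y, rfl⟩, by rw [← map_mul, ← map_mul, mem_centralizer_singleton_iff.mp hy]⟩
      rw [hKcard, hcen, card_map_of_injective hι, hcardB, ← (centralizer {x}).card_mul_index,
        mul_comm] at key
      refine (Nat.le_of_mul_le_mul_right key Nat.card_pos).trans ?_
      refine Nat.pow_le_pow_right (by omega) (Nat.mul_le_mul_left q ?_)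
      exact (Subgroup.card_le_card_group B).trans hA.le
    · rintro _ ⟨b, hb, rfl⟩ hb1
      have hb1' : b ≠ 1 := fun h => hb1 (by rw [h, map_one])
      have hfix : ι.range ⊓ centralizer {ρ b} = (Coprime.fixedBy (φ b)).map ι := by
        ext z
        rw [mem_inf, mem_centralizer_singleton_iff]
        constructor
        · rintro ⟨⟨y, rfl⟩, hy⟩
          refine ⟨y, hι ?_, rfl⟩
          show ι (φ b y) = ι y
          rw [← hconj, ← hy, mul_inv_cancel_right]
        · rintro ⟨y, hy, rfl⟩
          have hy' : φ b y = y := hy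
          refine ⟨⟨y, rfl⟩, ?_⟩
          conv_lhs => rw [← hy', ← hconj, inv_mul_cancel_right]
      rw [hfix, ← map_commutator, card_map_of_injective hι,
        ← map_subtype_commutator, card_map_of_injective (subtype_injective _)]
      exact hm b hb1'
    · rw [mem_centralizer_iff]
      rintro _ ⟨b, hb, rfl⟩
      calc ρ b * ι x = ρ b * ι x * (ρ b)⁻¹ * ρ b := by group
        _ = ι x * ρ b := by rw [hconj, hxB b hb]
  have hRindex : ∀ r ∈ R, (centralizer ({r} : Set G)).index ≤
      (m + 1) ^ (q * q ^ 3) * (m + 1) ^ (q * q ^ 3) := by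
    rintro _ ⟨x, hx, y, hy, rfl⟩
    refine le_trans (Nat.le_of_dvd ?_ (index_dvd_of_le
      (show centralizer {x} ⊓ centralizer {y} ≤ centralizer {⁅x, y⁆} from ?_)))
      (index_inf_le.trans (Nat.mul_le_mul (hindex x hx) (hindex y hy)))
    · exact Nat.pos_of_ne_zero Subgroup.index_ne_zero_of_finite
    · rintro z ⟨hzx, hzy⟩
      have hx' : Commute z x := mem_centralizer_singleton_iff.mp hzx
      have hy' : Commute z y := mem_centralizer_singleton_iff.mp hzy
      rw [mem_centralizer_singleton_iff, commutatorElement_def]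
      exact ((hx'.mul_right hy').mul_right hx'.inv_right).mul_right hy'.inv_right
  calc Nat.card (commutator G) ≤ Nat.card (normalClosure R) :=
        card_le_of_le (commutator_le_normalClosure hTtop)
    _ ≤ bound q m := card_normalClosure_le R hRcard hRindex hRord

end Cfsg.Agent.Lib.BoundedDerived
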